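import Cfsg.Agent.CpAutHe.Cnt

/-!
# Two centralizers of elements of order 7 in the Held group (helper69)

`x0 = d f g` commutes with `a` and `|C(x0)| ≤ 1176`; `x1 = (b c d f g d f)²`, `|C(x1)| ≤ 196`.
-/

set_option autoImplicit false

namespace Cfsg.Agent.CpAutHe.Bound

open Subgroup
open Cfsg.Spor Cfsg.Spor.He Cfsg.Agent.SporadicB.HePerm
open Cfsg.Agent.FixBN.HeStab Cfsg.Agent.KFacts.He.Lv Cfsg.Agent.CpAutHe.Cnt

theorem sub_of_chk {l F : List ℕ} (h : (l.all fun a => elemN a F) = true) : l ⊆ F := by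
  intro a ha
  rw [List.all_eq_true] at h
  exact of_elemN (h a ha)

/-- the word of `x0` -/
def X0 : List Gen := [.d, .f, .g]

/-- half of the word of `x1` -/
def X1h : List Gen := [.b, .c, .d, .f, .g, .d, .f]

/-- the word of `x1` -/
def X1 : List Gen := X1h ++ X1h

set_option maxRecDepth 100000

/-! ### `x0` -/

theorem c0a : cnt 2058 (tst X0 [] [3] 5) = 588 := by decide +kernel

theorem s0b : ([29, 190, 40, 5, 45, 43, 38].all fun a => elemN a (nx X0 [] 5)) = true := by decide +kernel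

theorem c0b : cnt 2058 (tst X0 [29, 190, 40, 5, 45, 43, 38] [] 9) = 2 := by decide +kernel

theorem s0c : ([43, 38, 9, 45, 127, 29, 190, 5, 107, 40, 669, 574, 526].all fun a => elemN a (nx X0 (nx X0 [] 5) 9)) =
    true := by decide +kernel

theorem d0a : cnt 2058 (tst X0 [43, 38, 9] [] 0) = 1 := by decide +kernel
theorem d0b : cnt 2058 (tst X0 [45, 127, 29, 190] [] 1) = 1 := by decide +kernel
theorem d0c : cnt 2058 (tst X0 [5, 107, 40] [] 32) = 1 := by decide +kernel
theorem d0d : cnt 2058 (tst X0 [669, 9, 574, 5, 127, 29, 526] [3] 8) = 1 := by decide +kernel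

theorem card0 : Nat.card ↥(centralizer ({wd X0} : Set Cfsg.Spor.He)) ≤ 1176 := by
  have hC : ∀ c ∈ centralizer ({wd X0} : Set Cfsg.Spor.He), c * wd X0 = wd X0 * c := fun c hc =>
    mem_centralizer_singleton_iff.1 hc
  have hC1 : ∀ c ∈ st (centralizer ({wd X0} : Set Cfsg.Spor.He)) 5, c * wd X0 = wd X0 * c := fun c hc =>
    hC c (mem_st.1 hc).1
  have hC2 : ∀ c ∈ st (st (centralizer ({wd X0} : Set Cfsg.Spor.He)) 5) 9, c * wd X0 = wd X0 * c := fun c hc =>
    hC1 c (mem_st.1 hc).1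
  have hF1 : ∀ c ∈ st (centralizer ({wd X0} : Set Cfsg.Spor.He)) 5, ∀ f ∈ nx X0 [] 5, Fx c f := fun c hc =>
    fx_nx (p := 5) (hC1 c hc) (fun _ hf => absurd hf List.not_mem_nil) (mem_st.1 hc).2
  have hF2 : ∀ c ∈ st (st (centralizer ({wd X0} : Set Cfsg.Spor.He)) 5) 9, ∀ f ∈ nx X0 (nx X0 [] 5) 9, Fx c f :=
    fun c hc => fx_nx (p := 9) (hC2 c hc) (hF1 c (mem_st.1 hc).1) (mem_st.1 hc).2
  have hs := sub_of_chk s0c
  have h2 : Nat.card ↥(st (st (centralizer ({wd X0} : Set Cfsg.Spor.He)) 5) 9) ≤ 1 := by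
    rw [Subgroup.card_le_one_iff_eq_bot, eq_bot_iff_forall]
    intro c hc
    have k := fix_of_one (hC2 c hc) (hF2 c hc)
    have e0 : phi c 0 = 0 := k 0 [43, 38, 9] [] (fun a ha => hs (by revert ha; revert a; decide)) d0a
    have e1 : phi c 1 = 1 := k 1 [45, 127, 29, 190] [] (fun a ha => hs (by revert ha; revert a; decide)) d0b
    have e2 : phi c 32 = 32 := k 32 [5, 107, 40] [] (fun a ha => hs (by revert ha; revert a; decide)) d0c
    have e3 : phi c 8 = 8 := k 8 [669, 9, 574, 5, 127, 29, 526] [3]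
      (fun a ha => hs (by revert ha; revert a; decide)) d0d
    have e : ∀ i, phi (1 : Cfsg.Spor.He) i = i := fun i => by rw [map_one]; rfl
    apply eq_of_base
    · rw [e0, e]
    · rw [e1, e]
    · rw [e2, e]
    · rw [e3, e]
  have h1 : Nat.card ↥(st (centralizer ({wd X0} : Set Cfsg.Spor.He)) 5) ≤ 2 * 1 :=
    step hC1 hF1 9 _ [] (sub_of_chk s0b) c0b h2
  exact step (F := []) hC (fun _ _ f hf => absurd hf List.not_mem_nil) 5 [] [3] (fun _ h => h) c0a h1

/-! ### `x1` -/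

theorem c1a : cnt 2058 (tst X1 [] [2] 8) = 196 := by decide +kernel

theorem s1b : ([8, 780, 70, 802, 485, 1969, 1019].all fun a => elemN a (nx X1 [] 8)) = true := by decide +kernel

theorem c1b : cnt 2058 (tst X1 [8, 780, 70, 802, 485, 1969, 1019] [] 32) = 1 := by decide +kernel

theorem s1c : ([780, 327, 802, 644, 70].all fun a => elemN a (nx X1 (nx X1 [] 8) 32)) = true := by decide +kernel

theorem d1a : cnt 2058 (tst X1 [780, 327] [3] 0) = 1 := by decide +kernel
theorem d1b : cnt 2058 (tst X1 [802, 327, 644, 70] [] 1) = 1 := by decide +kernel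

theorem card1 : Nat.card ↥(centralizer ({wd X1} : Set Cfsg.Spor.He)) ≤ 196 := by
  have hC : ∀ c ∈ centralizer ({wd X1} : Set Cfsg.Spor.He), c * wd X1 = wd X1 * c := fun c hc =>
    mem_centralizer_singleton_iff.1 hc
  have hC1 : ∀ c ∈ st (centralizer ({wd X1} : Set Cfsg.Spor.He)) 8, c * wd X1 = wd X1 * c := fun c hc =>
    hC c (mem_st.1 hc).1
  have hF1 : ∀ c ∈ st (centralizer ({wd X1} : Set Cfsg.Spor.He)) 8, ∀ f ∈ nx X1 [] 8, Fx c f := fun c hc =>
    fx_nx (p := 8) (hC1 c hc) (fun _ hf => absurd hf List.not_mem_nil) (mem_st.1 hc).2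
  have h1 : Nat.card ↥(st (centralizer ({wd X1} : Set Cfsg.Spor.He)) 8) ≤ 1 := by
    rw [Subgroup.card_le_one_iff_eq_bot, eq_bot_iff_forall]
    intro c hc
    have e2 : phi c 32 = 32 := fix_of_one (hC1 c hc) (hF1 c hc) 32 _ [] (sub_of_chk s1b) c1b
    have hF2 : ∀ f ∈ nx X1 (nx X1 [] 8) 32, Fx c f := fx_nx (p := 32) (hC1 c hc) (hF1 c hc) e2
    have hs := sub_of_chk s1c
    have k := fix_of_one (hC1 c hc) hF2
    have e0 : phi c 0 = 0 := k 0 [780, 327] [3] (fun a ha => hs (by revert ha; revert a; decide)) d1a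
    have e1 : phi c 1 = 1 := k 1 [802, 327, 644, 70] [] (fun a ha => hs (by revert ha; revert a; decide)) d1b
    have e3 : phi c 8 = 8 := (mem_st.1 hc).2
    have e : ∀ i, phi (1 : Cfsg.Spor.He) i = i := fun i => by rw [map_one]; rfl
    apply eq_of_base
    · rw [e0, e]
    · rw [e1, e]
    · rw [e2, e]
    · rw [e3, e]
  exact step (F := []) hC (fun _ _ f hf => absurd hf List.not_mem_nil) 8 [] [2] (fun _ h => h) c1a h1

end Cfsg.Agent.CpAutHe.Bound
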