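import Mathlib
import Cfsg.Agent.KFacts.He.Lv

/-!
# Upper bounds for centralizers in the Held group (helper69)

`step` : one level of the chain for a subgroup `C` commuting with the word `X` and fixing the points of `F`.
-/

set_option autoImplicit false

namespace Cfsg.Agent.CpAutHe.Cnt

open Cfsg.Spor Cfsg.Spor.He Cfsg.Agent.SporadicB.HePerm
open Cfsg.Agent.FixBN.HeStab Cfsg.Agent.KFacts.He.Lv

/-- Orbit-stabiliser: a group moving `p` only to the points of `S`, with stabiliser of order at most `m`. -/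
theorem card_le_of_fix {G α : Type*} [Group G] [Finite G] [MulAction G α] (p : α) (S : Finset α)
    (hS : ∀ g : G, g • p ∈ S) {m : ℕ} (hm : Nat.card (MulAction.stabilizer G p) ≤ m) : Nat.card G ≤ S.card * m := by
  have h1 := (MulAction.stabilizer G p).card_mul_index
  rw [MulAction.index_stabilizer] at h1
  have h2 : (MulAction.orbit G p).ncard ≤ S.card := by
    rw [← Set.ncard_coe_finset]
    apply Set.ncard_le_ncard _ S.finite_toSet
    rintro _ ⟨g, rfl⟩
    exact hS g
  rw [← h1, mul_comm]
  exact Nat.mul_le_mul h2 hm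

/-- the number of `k < n` with `P k` -/
def cnt (n : ℕ) (P : ℕ → Bool) : ℕ := Nat.rec 0 (fun k ih => bif P k then Nat.succ ih else ih) n

theorem card_filter (n : ℕ) (P : ℕ → Bool) : ((Finset.range n).filter (fun y => P y = true)).card = cnt n P := by
  induction n with
  | zero => rfl
  | succ k ih =>
    have h : cnt (k + 1) P = bif P k then Nat.succ (cnt k P) else cnt k P := rfl
    rw [Finset.range_add_one, Finset.filter_insert, h]
    rcases hP : P k with _ | _
    · rw [if_neg (by simp), cond_false, ih]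
    · rw [if_pos rfl, cond_true, Finset.card_insert_of_notMem (by simp), ih]

/-- the power of a word -/
def pw (X : List Gen) (k : ℕ) : List Gen := Nat.rec [] (fun _ ih => X ++ ih) k

theorem wd_pw (X : List Gen) (k : ℕ) : wd (pw X k) = wd X ^ k := by
  induction k with
  | zero => rw [pow_zero]; exact wd_nil
  | succ k ih =>
    rw [pow_succ', ← ih, ← wd_append]
    rfl

/-- the tests for the images of the point `p` -/
def tst (X : List Gen) (fs ks : List ℕ) (p y : ℕ) : Bool :=
  and (fs.all fun f => Nat.beq (colr f y) (colr f p))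
    (ks.all fun k => Nat.beq (colr y (act (pw X k) y)) (colr p (act (pw X k) p)))

theorem tst_spec {X : List Gen} {c : Cfsg.Spor.He} (hc : c * wd X = wd X * c) {F fs : List ℕ} (hF : ∀ f ∈ F, Fx c f)
    (hfs : fs ⊆ F) (ks : List ℕ) (p : Fin 2058) : tst X fs ks p (phi c p) = true := by
  unfold tst
  rw [Bool.and_eq_true, List.all_eq_true, List.all_eq_true]
  constructor
  · intro f hf
    obtain ⟨hlt, hfx⟩ := hF f (hfs hf)
    have h1 := colr_inv c ⟨f, hlt⟩ p
    rw [hfx] at h1
    have h2 : colr f (phi c p) = colr f p := h1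
    rw [h2]
    exact Nat.beq_refl _
  · intro k _
    have h1 : c * wd (pw X k) = wd (pw X k) * c := by
      rw [wd_pw]
      exact ((show Commute c (wd X) from hc).pow_right k).eq
    have h2 : act (pw X k) (phi c p) = (phi c (phi (wd (pw X k)) p) : ℕ) := by
      rw [act_eq, ← phi_mul_apply, ← h1, phi_mul_apply]
    rw [h2, colr_inv, ← act_eq]
    exact Nat.beq_refl _

/-- the points fixed after the level `p` -/
def nx (X : List Gen) (F : List ℕ) (p : ℕ) : List ℕ := (List.range 7).map (fun k => act (pw X k) p) ++ F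

theorem fx_nx {X : List Gen} {c : Cfsg.Spor.He} (hc : c * wd X = wd X * c) {F : List ℕ} (hF : ∀ f ∈ F, Fx c f)
    {p : Fin 2058} (hp : phi c p = p) : ∀ f ∈ nx X F p, Fx c f := by
  intro f hf
  rcases List.mem_append.1 hf with h | h
  · obtain ⟨k, -, rfl⟩ := List.mem_map.1 h
    have h1 : c * wd (pw X k) = wd (pw X k) * c := by
      rw [wd_pw]
      exact ((show Commute c (wd X) from hc).pow_right k).eq
    refine ⟨by rw [act_eq]; exact (phi (wd (pw X k)) p).2, ?_⟩
    have e : (⟨act (pw X k) p, by rw [act_eq]; exact (phi (wd (pw X k)) p).2⟩ : Fin 2058) = phi (wd (pw X k)) p :=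
      Fin.ext (act_eq _ _)
    rw [e, ← phi_mul_apply, h1, phi_mul_apply, hp]
  · exact hF f h

/-- the stabiliser of a point in `C` -/
noncomputable def st (C : Subgroup Cfsg.Spor.He) (p : Fin 2058) : Subgroup Cfsg.Spor.He := C ⊓ (fixer p).comap phi

theorem mem_st {C : Subgroup Cfsg.Spor.He} {p : Fin 2058} {c : Cfsg.Spor.He} : c ∈ st C p ↔ c ∈ C ∧ phi c p = p := by
  unfold st
  rw [Subgroup.mem_inf, Subgroup.mem_comap, mem_fixer]

theorem orb (C : Subgroup Cfsg.Spor.He) (p : Fin 2058) (S : Finset ℕ) (hS : ∀ c ∈ C, (phi c p : ℕ) ∈ S) {m : ℕ}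
    (hm : Nat.card ↥(st C p) ≤ m) : Nat.card C ≤ S.card * m := by
  let _ : MulAction C (Fin 2058) := MulAction.compHom (Fin 2058) (phi.comp C.subtype)
  have hact : ∀ (c : C) (q : Fin 2058), c • q = phi (c : Cfsg.Spor.He) q := fun c q => rfl
  have h1 : Nat.card C ≤ ((Finset.univ : Finset (Fin 2058)).filter (fun y : Fin 2058 => (y : ℕ) ∈ S)).card * m := by
    apply card_le_of_fix p
    · intro c
      rw [Finset.mem_filter, hact]
      exact ⟨Finset.mem_univ _, hS c c.2⟩
    · refine le_trans (le_of_eq ?_) hm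
      have hle : st C p ≤ C := fun c hc => (mem_st.1 hc).1
      have h2 : MulAction.stabilizer C p = (st C p).subgroupOf C := by
        ext c
        rw [MulAction.mem_stabilizer_iff, Subgroup.mem_subgroupOf, mem_st, hact]
        exact ⟨fun h => ⟨c.2, h⟩, fun h => h.2⟩
      rw [h2]
      exact Nat.card_congr (Subgroup.subgroupOfEquivOfLe hle).toEquiv
  refine le_trans h1 (Nat.mul_le_mul_right _ ?_)
  apply Finset.card_le_card_of_injOn (fun y : Fin 2058 => (y : ℕ))
  · intro y hy
    exact (Finset.mem_filter.1 hy).2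
  · intro y _ z _ h
    exact Fin.ext h

/-- **One level.** -/
theorem step {X : List Gen} {C : Subgroup Cfsg.Spor.He} (hC : ∀ c ∈ C, c * wd X = wd X * c) {F : List ℕ}
    (hF : ∀ c ∈ C, ∀ f ∈ F, Fx c f) (p : Fin 2058) (fs ks : List ℕ) (hfs : fs ⊆ F) {n m : ℕ}
    (hn : cnt 2058 (tst X fs ks p) = n) (hm : Nat.card ↥(st C p) ≤ m) : Nat.card C ≤ n * m := by
  rw [← hn, ← card_filter]
  apply orb C p _ _ hm
  intro c hc
  rw [Finset.mem_filter, Finset.mem_range]
  exact ⟨(phi c p).2, tst_spec (hC c hc) (hF c hc) hfs ks p⟩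

/-- a point with only one possible image -/
theorem fix_of_one {X : List Gen} {c : Cfsg.Spor.He} (hc : c * wd X = wd X * c) {F : List ℕ}
    (hF : ∀ f ∈ F, Fx c f) (p : Fin 2058) (fs ks : List ℕ) (hfs : fs ⊆ F)
    (hn : cnt 2058 (tst X fs ks p) = 1) : phi c p = p := by
  rw [← card_filter, Finset.card_eq_one] at hn
  obtain ⟨a, ha⟩ := hn
  have h1 : (phi c p : ℕ) ∈ (Finset.range 2058).filter (fun y => tst X fs ks p y = true) := by
    rw [Finset.mem_filter, Finset.mem_range]
    exact ⟨(phi c p).2, tst_spec hc hF hfs ks p⟩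
  have h2 : (p : ℕ) ∈ (Finset.range 2058).filter (fun y => tst X fs ks p y = true) := by
    rw [Finset.mem_filter, Finset.mem_range]
    refine ⟨p.2, ?_⟩
    have h3 := tst_spec (X := X) (c := 1) (by rw [one_mul, mul_one]) (F := fs) (fs := fs) (fun f hf => by
      obtain ⟨hlt, -⟩ := hF f (hfs hf)
      exact ⟨hlt, by rw [map_one]; rfl⟩) (fun _ h => h) ks p
    rw [map_one] at h3
    exact h3
  rw [ha, Finset.mem_singleton] at h1 h2
  exact Fin.ext (h1.trans h2.symm)

end Cfsg.Agent.CpAutHe.Cnt
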