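import Cfsg.Agent.CpAutHe.Bound
import Cfsg.Agent.CpAutSmall.Base
import Cfsg.Agent.CpAutON.Gen
import Cfsg.Agent.KFacts.He.Classes
import Cfsg.Agent.KFacts.He.TwoAPlane
import Cfsg.Agent.CpAut.Base

/-!
# S1814, the row of the Held group at `p = 7` (helper69)

Every element of order 7 commuting with an involution is conjugate to a generator of `⟨x0⟩` or `⟨x1⟩`, so its
centralizer has order at most 1176, and `Comps` holds by the list of the simple groups of order at most 1092.
-/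

set_option autoImplicit false
set_option maxRecDepth 100000

namespace Cfsg.Agent.CpAutHe.Seven

open Subgroup Cfsg
open Cfsg.Spor.He (Gen)
open Cfsg.Agent.SporadicB.HePerm (act wd)
open Cfsg.Agent.FixBN.HeStab Cfsg.Agent.KFacts.He.Lv Cfsg.Agent.CpAutHe.Cnt Cfsg.Agent.CpAutHe.Bound
open Cfsg.Agent.KFacts.He.TwoACent (L L_comm_a a_ne_one two mem_C_of_comm V V_le_L card_V gn_mem_L gn_mul_self)
open Cfsg.Agent.LThree (Comps)

section General

variable {G : Type*} [Group G]

theorem comm_conj {u x c : G} (h : c * x = x * c) :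
    (u * c * u⁻¹) * (u * x * u⁻¹) = (u * x * u⁻¹) * (u * c * u⁻¹) := by
  calc (u * c * u⁻¹) * (u * x * u⁻¹) = u * (c * x) * u⁻¹ := by group
    _ = u * (x * c) * u⁻¹ := by rw [h]
    _ = (u * x * u⁻¹) * (u * c * u⁻¹) := by group

theorem orderOf_conj' (u x : G) : orderOf (u * x * u⁻¹) = orderOf x := by
  rw [← MulAut.conj_apply, MulEquiv.orderOf_eq]

theorem card_cent_le [Finite G] {p : ℕ} {x y u : G} (hx : orderOf x = p) (hy : orderOf y = p)
    (hu : u * x * u⁻¹ ∈ zpowers y) :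
    Nat.card ↥(centralizer ({x} : Set G)) ≤ Nat.card ↥(centralizer ({y} : Set G)) := by
  -- `y` is a power of `u x u⁻¹`
  have h1 : y ∈ zpowers (u * x * u⁻¹) := by
    have h2 : zpowers (u * x * u⁻¹) = zpowers y := by
      apply Subgroup.eq_of_le_of_card_ge
      · rwa [zpowers_le]
      · rw [Nat.card_zpowers, Nat.card_zpowers, orderOf_conj', hx, hy]
    rw [h2]
    exact mem_zpowers y
  obtain ⟨n, hn⟩ := mem_zpowers_iff.1 h1
  refine Nat.card_le_card_of_injective (fun c : ↥(centralizer ({x} : Set G)) =>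
    (⟨u * c * u⁻¹, ?_⟩ : ↥(centralizer ({y} : Set G)))) ?_
  · rw [mem_centralizer_singleton_iff, ← hn]
    exact ((show Commute (u * (c : G) * u⁻¹) (u * x * u⁻¹) from
      comm_conj (mem_centralizer_singleton_iff.1 c.2)).zpow_right n).eq
  · intro c d h
    apply Subtype.ext
    have h2 : u * (c : G) * u⁻¹ = u * (d : G) * u⁻¹ := congrArg Subtype.val h
    exact mul_left_cancel (mul_right_cancel h2)

theorem card_cent_conj [Finite G] (u t : G) :
    Nat.card ↥(centralizer ({u * t * u⁻¹} : Set G)) = Nat.card ↥(centralizer ({t} : Set G)) := by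
  apply Nat.card_congr
  refine
    { toFun := fun c => ⟨u⁻¹ * c * u, ?_⟩
      invFun := fun c => ⟨u * c * u⁻¹, ?_⟩
      left_inv := ?_
      right_inv := ?_ }
  · rw [mem_centralizer_singleton_iff]
    have h1 := comm_conj (u := u⁻¹) (mem_centralizer_singleton_iff.1 c.2)
    have e1 : u⁻¹ * (u * t * u⁻¹) * u⁻¹⁻¹ = t := by group
    rw [e1, inv_inv] at h1
    exact h1
  · rw [mem_centralizer_singleton_iff]
    exact comm_conj (mem_centralizer_singleton_iff.1 c.2)
  · intro c
    apply Subtype.ext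
    change u * (u⁻¹ * (c : G) * u) * u⁻¹ = c
    group
  · intro c
    apply Subtype.ext
    change u⁻¹ * (u * (c : G) * u⁻¹) * u = c
    group

end General

/-! ### The elements `x0`, `x1` -/

/-- an element of order 7 commuting with `a` -/
noncomputable def x0 : Cfsg.Spor.He := wd X0

/-- an element of order 7 commuting with a conjugate of `z` -/
noncomputable def x1 : Cfsg.Spor.He := wd X1

theorem x0_eq : wd X0 = x0 := rfl
theorem x1_eq : wd X1 = x1 := rfl

theorem chk0 : chkB (pw X0 7) [] = true := by decide +kernel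
theorem chk1 : chkB (pw X1 7) [] = true := by decide +kernel

theorem x0_pow : x0 ^ 7 = 1 := by
  have h := eq_of_chkB chk0
  rwa [wd_pw, wd_nil] at h

theorem x1_pow : x1 ^ 7 = 1 := by
  have h := eq_of_chkB chk1
  rwa [wd_pw, wd_nil] at h

theorem ne_one_of_act {w : List Gen} (i : Fin 2058) (h : Nat.beq (act w i) i = false) : wd w ≠ 1 := by
  intro he
  rw [act_eq, he, map_one] at h
  have h2 : Nat.beq (i : ℕ) (i : ℕ) = true := Nat.beq_refl _
  have h3 : Nat.beq (i : ℕ) (i : ℕ) = false := h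
  rw [h2] at h3
  exact absurd h3 (by decide)

theorem x0_ne : x0 ≠ 1 := ne_one_of_act 5 (by decide +kernel)
theorem x1_ne : x1 ≠ 1 := ne_one_of_act 5 (by decide +kernel)

theorem order0 : orderOf x0 = 7 := by
  have : Fact (Nat.Prime 7) := ⟨by norm_num⟩
  exact orderOf_eq_prime x0_pow x0_ne

theorem order1 : orderOf x1 = 7 := by
  have : Fact (Nat.Prime 7) := ⟨by norm_num⟩
  exact orderOf_eq_prime x1_pow x1_ne

theorem x0_mem : x0 ∈ L := by
  have h : x0 = gn .d * (gn .f * gn .g) := by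
    rw [← x0_eq, X0, wd_cons, wd_cons, wd_one]
  rw [h]
  exact L.mul_mem (gn_mem_L (by simp)) (L.mul_mem (gn_mem_L (by simp)) (gn_mem_L (by simp)))

/-! ### The involution `a` -/

theorem card_L : Nat.card L = 80640 := by
  have h1 := card_eq_card_quotient_mul_card_subgroup (center ↥L)
  rw [Nat.card_congr Cfsg.Agent.KFacts.He.TwoAPlane.quotEquiv.toEquiv, Cfsg.Agent.KFacts.He.TwoAPlane.center_L,
    Nat.card_congr (subgroupOfEquivOfLe V_le_L).toEquiv, card_V] at h1
  rw [h1, Cfsg.Agent.ONType.PslCard.card_PSL3]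

theorem mem_L_of_order {x : Cfsg.Spor.He} (hx : x ^ 7 = 1) (ha : x * gn .a = gn .a * x) : x ∈ L := by
  rcases two ha ha with h | h | h
  · exact h
  · exact h
  · have e : x = (x * x) ^ 4 := by
      rw [← pow_two, ← pow_mul, show 2 * 4 = 7 + 1 by norm_num, pow_succ, hx, one_mul]
    rw [e]
    exact L.pow_mem h 4

theorem case_a {x : Cfsg.Spor.He} (hx : orderOf x = 7) (ha : x * gn .a = gn .a * x) :
    Nat.card ↥(centralizer ({x} : Set Cfsg.Spor.He)) ≤ 1176 := by
  have h7 : Fact (Nat.Prime 7) := ⟨by norm_num⟩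
  have hxL := mem_L_of_order (by rw [← hx, pow_orderOf_eq_one]) ha
  obtain ⟨g, hg⟩ := CpAutON.Gen.conj_into (G := L) (p := 7) (by rw [card_L]; norm_num)
    (x := ⟨x, hxL⟩) (y := ⟨x0, x0_mem⟩) (by rw [← Subgroup.orderOf_coe]; exact hx)
    (by rw [← Subgroup.orderOf_coe]; exact order0)
  obtain ⟨n, hn⟩ := mem_zpowers_iff.1 hg
  have hn' : x0 ^ n = (g : Cfsg.Spor.He) * x * (g : Cfsg.Spor.He)⁻¹ := congrArg Subtype.val hn
  refine le_trans (card_cent_le hx order0 (u := (g : Cfsg.Spor.He)) ?_) card0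
  rw [← hn']
  exact zpow_mem (mem_zpowers x0) n

/-! ### The involution `d` -/

/-- the word of the involution `t1` -/
def T1 : List Gen := pw X1h 7

/-- the conjugating word -/
def gw : List Gen := [.c, .b, .d, .c, .e, .g, .d, .c, .d, .b, .c, .d, .c, .d, .g, .d, .b, .c]

theorem chkT : chkB (gw ++ [.d]) (T1 ++ gw) = true := by decide +kernel

theorem t1_conj : wd gw * gn .d * (wd gw)⁻¹ = wd T1 := by
  have h := eq_of_chkB chkT
  rw [wd_append, wd_append, wd_one] at h
  rw [h, mul_inv_cancel_right]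

theorem x1_half : x1 = wd X1h ^ 2 := by
  rw [← x1_eq, X1, wd_append, pow_two]

theorem x1_comm : x1 * wd T1 = wd T1 * x1 := by
  rw [x1_half, T1, wd_pw]
  exact ((Commute.refl (wd X1h)).pow_pow 2 7).eq

theorem card_t1 : Nat.card ↥(centralizer ({wd T1} : Set Cfsg.Spor.He)) = 21504 := by
  obtain ⟨u, hu⟩ := Cfsg.Agent.KFacts.He.Classes.z_d
  have hu' : u * Cfsg.Agent.KFacts.He.Bound.z * u⁻¹ = gn .d := hu
  rw [← t1_conj, card_cent_conj, ← hu', card_cent_conj]
  exact Cfsg.Agent.KFacts.He.Classes.card_centralizer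

theorem case_d {x : Cfsg.Spor.He} (hx : orderOf x = 7) (hd : x * wd T1 = wd T1 * x) :
    Nat.card ↥(centralizer ({x} : Set Cfsg.Spor.He)) ≤ 1176 := by
  have h7 : Fact (Nat.Prime 7) := ⟨by norm_num⟩
  obtain ⟨g, hg⟩ := CpAutON.Gen.conj_into (G := ↥(centralizer ({wd T1} : Set Cfsg.Spor.He))) (p := 7)
    (by rw [card_t1]; norm_num)
    (x := ⟨x, mem_centralizer_singleton_iff.2 hd⟩) (y := ⟨x1, mem_centralizer_singleton_iff.2 x1_comm⟩)
    (by rw [← Subgroup.orderOf_coe]; exact hx) (by rw [← Subgroup.orderOf_coe]; exact order1)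
  obtain ⟨n, hn⟩ := mem_zpowers_iff.1 hg
  have hn' : x1 ^ n = (g : Cfsg.Spor.He) * x * (g : Cfsg.Spor.He)⁻¹ := congrArg Subtype.val hn
  refine le_trans (card_cent_le hx order1 (u := (g : Cfsg.Spor.He)) ?_) (card1.trans (by norm_num))
  rw [← hn']
  exact zpow_mem (mem_zpowers x1) n

/-- the order of the centralizer of an element of order 7 -/
theorem card_le {x : Cfsg.Spor.He} (hx : orderOf x = 7)
    (he : ¬ Odd (Nat.card ↥(centralizer ({x} : Set Cfsg.Spor.He)))) :
    Nat.card ↥(centralizer ({x} : Set Cfsg.Spor.He)) ≤ 1176 := by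
  have h2 : Fact (Nat.Prime 2) := ⟨Nat.prime_two⟩
  rw [Nat.not_odd_iff_even, even_iff_two_dvd] at he
  obtain ⟨t, ht⟩ := exists_prime_orderOf_dvd_card' 2 he
  have hto : orderOf (t : Cfsg.Spor.He) = 2 := by rw [Subgroup.orderOf_coe, ht]
  have htx : (t : Cfsg.Spor.He) * x = x * t := mem_centralizer_singleton_iff.1 t.2
  have htt : (t : Cfsg.Spor.He) * t = 1 := by rw [← pow_two, ← hto, pow_orderOf_eq_one]
  have ht1 : (t : Cfsg.Spor.He) ≠ 1 := by
    intro h
    rw [h, orderOf_one] at hto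
    omega
  -- conjugation
  have key : ∀ (r g : Cfsg.Spor.He), g * r * g⁻¹ = t →
      (g⁻¹ * x * g⁻¹⁻¹) * r = r * (g⁻¹ * x * g⁻¹⁻¹) ∧
      Nat.card ↥(centralizer ({g⁻¹ * x * g⁻¹⁻¹} : Set Cfsg.Spor.He)) =
        Nat.card ↥(centralizer ({x} : Set Cfsg.Spor.He)) ∧ orderOf (g⁻¹ * x * g⁻¹⁻¹) = 7 := by
    intro r g hg
    refine ⟨?_, card_cent_conj _ _, by rw [orderOf_conj', hx]⟩
    have h3 := comm_conj (u := g⁻¹) htx.symm
    have e : g⁻¹ * (t : Cfsg.Spor.He) * g⁻¹⁻¹ = r := by rw [← hg]; group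
    rw [e] at h3
    exact h3
  rcases Cfsg.Agent.KFacts.He.Classes.two_classes_ad htt ht1 with ⟨g, hg⟩ | ⟨g, hg⟩
  · have hg' : (g * (wd gw)⁻¹) * wd T1 * (g * (wd gw)⁻¹)⁻¹ = t := by
      rw [← t1_conj, ← hg]
      change _ = g * gn .d * g⁻¹
      group
    obtain ⟨h3, h4, h5⟩ := key _ _ hg'
    rw [← h4]
    exact case_d h5 h3
  · obtain ⟨h3, h4, h5⟩ := key _ _ hg
    rw [← h4]
    exact case_a h5 h3

theorem comps (FT : ∀ (K : Type) [Group K] [Finite K], Odd (Nat.card K) → Group.IsSolvable K) {x : Cfsg.Spor.He}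
    (hx : orderOf x = 7) : Comps 7 ↥(centralizer ({x} : Set Cfsg.Spor.He)) := by
  by_cases ho : Odd (Nat.card ↥(centralizer ({x} : Set Cfsg.Spor.He)))
  · exact Comps.of_solvable (FT _ ho)
  · have h1 := card_le hx ho
    have hxm : x ∈ centralizer ({x} : Set Cfsg.Spor.He) := mem_centralizer_singleton_iff.2 rfl
    refine CpAutSmall.comps_seven (x := ⟨x, hxm⟩) (by rw [← Subgroup.orderOf_coe]; exact hx) ?_ (by omega)
    rw [mem_center_iff]
    intro c
    exact Subtype.ext (mem_centralizer_singleton_iff.1 c.2)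

theorem simple_he : IsSimpleGroup Cfsg.Spor.He := Cfsg.Agent.S1695.result.1

theorem not_comm : ¬ IsMulCommutative Cfsg.Spor.He := by
  intro h
  have hs' := simple_he
  have hc : ∀ a b : Cfsg.Spor.He, a * b = b * a := h.is_comm.comm
  let _ : CommGroup Cfsg.Spor.He := { (inferInstance : Group Cfsg.Spor.He) with mul_comm := hc }
  have hp : (Nat.card Cfsg.Spor.He).Prime := IsSimpleGroup.prime_card
  rw [card_he] at hp
  norm_num at hp

theorem center_bot : center Cfsg.Spor.He = ⊥ := by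
  have hs' := simple_he
  exact CpAut.center_eq_bot_of_simple not_comm

/-- **The row**, for automorphisms of order 7 known to be inner. -/
theorem row (FT : ∀ (K : Type) [Group K] [Finite K], Odd (Nat.card K) → Group.IsSolvable K)
    (hi : CpAut.AutInner 7 Cfsg.Spor.He) : CpAut.AutC 7 Cfsg.Spor.He :=
  CpAut.autC_of_inner center_bot hi fun _ hg => comps FT hg

end Cfsg.Agent.CpAutHe.Seven
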